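import Cfsg.Agent.H637.A7Grp
import Cfsg.Agent.H805.ASeven
import Cfsg.Agent.H20.FrobASeven
import Cfsg.Agent.BpSpor.Cen
import Cfsg.Agent.Lib.SolvableNormalP

/-!
# Facts on the alternating group of degree seven (PS-12a)
-/

set_option autoImplicit false

namespace Cfsg.Agent.H681.Sev.A7

open Equiv Equiv.Perm Subgroup

/-- the order and the cycle type -/
theorem cases (g : alternatingGroup (Fin 7)) :
    ((g : Perm (Fin 7)).cycleType = 0 ∧ orderOf g = 1) ∨ ((g : Perm (Fin 7)).cycleType = {3} ∧ orderOf g = 3) ∨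
      ((g : Perm (Fin 7)).cycleType = {2, 2} ∧ orderOf g = 2) ∨
      ((g : Perm (Fin 7)).cycleType = {3, 3} ∧ orderOf g = 3) ∨
      ((g : Perm (Fin 7)).cycleType = {4, 2} ∧ orderOf g = 4) ∨
      ((g : Perm (Fin 7)).cycleType = {5} ∧ orderOf g = 5) ∨
      ((g : Perm (Fin 7)).cycleType = {3, 2, 2} ∧ orderOf g = 6) ∨
      ((g : Perm (Fin 7)).cycleType = {7} ∧ orderOf g = 7) := by
  have h0 : orderOf g = (g : Perm (Fin 7)).cycleType.lcm := by rw [lcm_cycleType, Subgroup.orderOf_coe]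
  rcases H637.A7Grp.cycleType_cases (mem_alternatingGroup.1 g.2) with h | h | h | h | h | h | h | h
  · exact Or.inl ⟨h, by rw [h0, h]; decide⟩
  · exact Or.inr (Or.inl ⟨h, by rw [h0, h]; decide⟩)
  · exact Or.inr (Or.inr (Or.inl ⟨h, by rw [h0, h]; decide⟩))
  · exact Or.inr (Or.inr (Or.inr (Or.inl ⟨h, by rw [h0, h]; decide⟩)))
  · exact Or.inr (Or.inr (Or.inr (Or.inr (Or.inl ⟨h, by rw [h0, h]; decide⟩))))
  · exact Or.inr (Or.inr (Or.inr (Or.inr (Or.inr (Or.inl ⟨h, by rw [h0, h]; decide⟩)))))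
  · exact Or.inr (Or.inr (Or.inr (Or.inr (Or.inr (Or.inr (Or.inl ⟨h, by rw [h0, h]; decide⟩))))))
  · exact Or.inr (Or.inr (Or.inr (Or.inr (Or.inr (Or.inr (Or.inr ⟨h, by rw [h0, h]; decide⟩))))))

theorem ct_two {g : alternatingGroup (Fin 7)} : orderOf g = 2 ↔ (g : Perm (Fin 7)).cycleType = {2, 2} := by
  rcases cases g with ⟨h, h'⟩ | ⟨h, h'⟩ | ⟨h, h'⟩ | ⟨h, h'⟩ | ⟨h, h'⟩ | ⟨h, h'⟩ | ⟨h, h'⟩ | ⟨h, h'⟩ <;>
    rw [h, h'] <;> decide

theorem ct_four {g : alternatingGroup (Fin 7)} : orderOf g = 4 ↔ (g : Perm (Fin 7)).cycleType = {4, 2} := by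
  rcases cases g with ⟨h, h'⟩ | ⟨h, h'⟩ | ⟨h, h'⟩ | ⟨h, h'⟩ | ⟨h, h'⟩ | ⟨h, h'⟩ | ⟨h, h'⟩ | ⟨h, h'⟩ <;>
    rw [h, h'] <;> decide

theorem ct_five {g : alternatingGroup (Fin 7)} : orderOf g = 5 ↔ (g : Perm (Fin 7)).cycleType = {5} := by
  rcases cases g with ⟨h, h'⟩ | ⟨h, h'⟩ | ⟨h, h'⟩ | ⟨h, h'⟩ | ⟨h, h'⟩ | ⟨h, h'⟩ | ⟨h, h'⟩ | ⟨h, h'⟩ <;>
    rw [h, h'] <;> decide

theorem ct_seven {g : alternatingGroup (Fin 7)} : orderOf g = 7 ↔ (g : Perm (Fin 7)).cycleType = {7} := by
  rcases cases g with ⟨h, h'⟩ | ⟨h, h'⟩ | ⟨h, h'⟩ | ⟨h, h'⟩ | ⟨h, h'⟩ | ⟨h, h'⟩ | ⟨h, h'⟩ | ⟨h, h'⟩ <;>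
    rw [h, h'] <;> decide

theorem order_le (g : alternatingGroup (Fin 7)) : orderOf g ≤ 7 := by
  rcases cases g with ⟨h, h'⟩ | ⟨h, h'⟩ | ⟨h, h'⟩ | ⟨h, h'⟩ | ⟨h, h'⟩ | ⟨h, h'⟩ | ⟨h, h'⟩ | ⟨h, h'⟩ <;>
    rw [h'] <;> norm_num

theorem card_A7 : Nat.card (alternatingGroup (Fin 7)) = 2520 := H20.FrobASeven.card_aseven

theorem simple_A7 : IsSimpleGroup (alternatingGroup (Fin 7)) := alternatingGroup.isSimpleGroup (by simp)

/-- number of elements of a given cycle type -/
theorem card_type (m : Multiset ℕ) (n k c : ℕ) (hn : ∀ g : alternatingGroup (Fin 7), orderOf g = n ↔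
      (g : Perm (Fin 7)).cycleType = m)
    (hc : (Fintype.card (Fin 7) - m.sum).factorial * m.prod * (∏ n ∈ m.toFinset, (m.count n).factorial) = c)
    (hm : (m.sum ≤ Fintype.card (Fin 7) ∧ ∀ a ∈ m, 2 ≤ a) ∧ Even (m.sum + Multiset.card m))
    (hk : k * c = 5040) :
    Nat.card {t : alternatingGroup (Fin 7) // orderOf t = n} = k := by
  classical
  have h1 := AlternatingGroup.card_of_cycleType_mul_eq (Fin 7) m
  rw [if_pos hm, hc] at h1
  have h2 : Nat.card {t : alternatingGroup (Fin 7) // orderOf t = n} =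
      Finset.card {g : alternatingGroup (Fin 7) | g.val.cycleType = m} := by
    rw [← Fintype.card_subtype, ← Nat.card_eq_fintype_card]
    exact Nat.card_congr (Equiv.subtypeEquivRight hn)
  rw [h2]
  have h3 : (Fintype.card (Fin 7)).factorial = 5040 := by rw [Fintype.card_fin]; decide
  rw [h3, ← hk] at h1
  have hc0 : 0 < c := by
    rcases Nat.eq_zero_or_pos c with h | h
    · rw [h] at hk; omega
    · exact h
  exact Nat.eq_of_mul_eq_mul_right hc0 h1

/-- **F3** -/
theorem f3 : Nat.card {t : alternatingGroup (Fin 7) // orderOf t = 2} = 105 :=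
  card_type {2, 2} 2 105 48 (fun _ => ct_two) (by decide) (by decide) (by norm_num)

/-- **F4** -/
theorem f4 : Nat.card {t : alternatingGroup (Fin 7) // orderOf t = 4} = 630 :=
  card_type {4, 2} 4 630 8 (fun _ => ct_four) (by decide) (by decide) (by norm_num)

/-- conjugates of elements of the alternating group under the symmetric group -/
def cj (h : Perm (Fin 7)) : alternatingGroup (Fin 7) ≃* alternatingGroup (Fin 7) := MulAut.conjNormal h

theorem coe_cj (h : Perm (Fin 7)) (g : alternatingGroup (Fin 7)) :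
    ((cj h g : alternatingGroup (Fin 7)) : Perm (Fin 7)) = h * g * h⁻¹ := MulAut.conjNormal_apply h g

theorem exists_cj {g g' : alternatingGroup (Fin 7)}
    (h : (g : Perm (Fin 7)).cycleType = (g' : Perm (Fin 7)).cycleType) : ∃ c, cj c g = g' := by
  obtain ⟨c, hc⟩ := isConj_iff.1 (isConj_iff_cycleType_eq.2 h)
  exact ⟨c, Subtype.ext (by rw [coe_cj, hc])⟩

/-- representatives -/
def t0 : alternatingGroup (Fin 7) := ⟨c[0, 1] * c[2, 3], mem_alternatingGroup.2 (by decide +kernel)⟩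
def g0 : alternatingGroup (Fin 7) := ⟨c[0, 1, 2, 3, 4], mem_alternatingGroup.2 (by decide +kernel)⟩
def u0 : alternatingGroup (Fin 7) := ⟨c[1, 2, 4, 3] * c[5, 6], mem_alternatingGroup.2 (by decide +kernel)⟩
def x0 : alternatingGroup (Fin 7) := ⟨c[0, 1, 2, 3, 4], mem_alternatingGroup.2 (by decide +kernel)⟩

theorem ct_t0 : (t0 : Perm (Fin 7)).cycleType = {2, 2} := by decide +kernel
theorem ct_u0 : (u0 : Perm (Fin 7)).cycleType = {4, 2} := by decide +kernel
theorem ct_x0 : (x0 : Perm (Fin 7)).cycleType = {5} := by decide +kernel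
theorem ct_tg : ((t0 * (g0 * t0 * g0⁻¹) : alternatingGroup (Fin 7)) : Perm (Fin 7)).cycleType = {5} := by
  decide +kernel
theorem rel_u0 : u0 * x0 * u0⁻¹ = x0 ^ 2 := by decide +kernel

/-- **F5** -/
theorem f5 {t : alternatingGroup (Fin 7)} (ht : orderOf t = 2) :
    ∃ g : alternatingGroup (Fin 7), orderOf (t * (g * t * g⁻¹)) = 5 := by
  obtain ⟨c, rfl⟩ := exists_cj (g := t0) (g' := t) (by rw [ct_t0, ct_two.1 ht])
  refine ⟨cj c g0, ?_⟩
  rw [← map_inv, ← map_mul, ← map_mul, ← map_mul, MulEquiv.orderOf_eq]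
  exact ct_five.2 ct_tg

/-- **F6** -/
theorem f6 {u : alternatingGroup (Fin 7)} (hu : orderOf u = 4) :
    ∃ x : alternatingGroup (Fin 7), orderOf x = 5 ∧ u * x * u⁻¹ = x ^ 2 := by
  obtain ⟨c, rfl⟩ := exists_cj (g := u0) (g' := u) (by rw [ct_u0, ct_four.1 hu])
  refine ⟨cj c x0, ?_, ?_⟩
  · rw [MulEquiv.orderOf_eq]
    exact ct_five.2 ct_x0
  · rw [← map_inv, ← map_mul, ← map_mul, ← map_pow, rel_u0]

/-- the centralizer of an element of given cycle type commuting with an odd permutation -/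
theorem card_cent (x r : alternatingGroup (Fin 7)) (m : Multiset ℕ) (c : ℕ) (hx : (x : Perm (Fin 7)).cycleType = m)
    (hr : (r : Perm (Fin 7)).cycleType = m) (s : Perm (Fin 7)) (hs : s * r.1 = r.1 * s) (hsg : sign s = -1)
    (hc : (Fintype.card (Fin 7) - m.sum).factorial * m.prod * (∏ n ∈ m.toFinset, (m.count n).factorial) = c * 2) :
    Nat.card (centralizer ({x} : Set (alternatingGroup (Fin 7)))) = c := by
  obtain ⟨d, hd⟩ := isConj_iff.1 (isConj_iff_cycleType_eq.2 (hr.trans hx.symm))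
  have h1 := H805.ASeven.card_cent x (d * s * d⁻¹) (by
    rw [← hd]
    calc d * s * d⁻¹ * (d * r.1 * d⁻¹) = d * (s * r.1) * d⁻¹ := by group
      _ = d * (r.1 * s) * d⁻¹ := by rw [hs]
      _ = d * r.1 * d⁻¹ * (d * s * d⁻¹) := by group) (by
    rw [map_mul, map_mul, map_inv, mul_right_comm, mul_inv_cancel, one_mul, hsg])
  rw [nat_card_centralizer, hx, hc] at h1
  omega

/-- **F7** -/
theorem f7 {u : alternatingGroup (Fin 7)} (hu : orderOf u = 4) :
    Nat.card (centralizer ({u} : Set (alternatingGroup (Fin 7)))) = 4 :=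
  card_cent u u0 {4, 2} 4 (ct_four.1 hu) ct_u0 c[5, 6] (by decide +kernel) (by decide +kernel) (by decide)

theorem card_cent_five {u : alternatingGroup (Fin 7)} (hu : orderOf u = 5) :
    Nat.card (centralizer ({u} : Set (alternatingGroup (Fin 7)))) = 5 :=
  card_cent u x0 {5} 5 (ct_five.1 hu) ct_x0 c[5, 6] (by decide +kernel) (by decide +kernel) (by decide)

theorem card_cent_seven {u : alternatingGroup (Fin 7)} (hu : orderOf u = 7) :
    Nat.card (centralizer ({u} : Set (alternatingGroup (Fin 7)))) = 7 := H20.FrobASeven.card_centralizer hu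

theorem card_cent_q {q : ℕ} (hq : q = 5 ∨ q = 7) {u : alternatingGroup (Fin 7)} (hu : orderOf u = q) :
    Nat.card (centralizer ({u} : Set (alternatingGroup (Fin 7)))) = q := by
  rcases hq with rfl | rfl
  · exact card_cent_five hu
  · exact card_cent_seven hu

/-- an involution does not commute with an element of order 5 or 7 -/
theorem not_comm {q : ℕ} (hq : q = 5 ∨ q = 7) {u t : alternatingGroup (Fin 7)} (hu : orderOf u = q)
    (ht : orderOf t = 2) : u * t ≠ t * u := by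
  intro hc
  have h1 : t ∈ centralizer ({u} : Set (alternatingGroup (Fin 7))) := mem_centralizer_singleton_iff.2 hc.symm
  have h2 := orderOf_dvd_natCard _ h1
  rw [ht, card_cent_q hq hu] at h2
  rcases hq with rfl | rfl <;> omega

theorem prime_q {q : ℕ} (hq : q = 5 ∨ q = 7) : q.Prime := by
  rcases hq with rfl | rfl <;> norm_num

theorem q_dvd {q : ℕ} (hq : q = 5 ∨ q = 7) : q ∣ 2520 ∧ ¬ q ^ 2 ∣ 2520 := by
  rcases hq with rfl | rfl <;> norm_num

/-- subgroups of order prime to `q` normalised by an element of order `q` -/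
theorem card_mod {q : ℕ} (hq : q = 5 ∨ q = 7) {x : alternatingGroup (Fin 7)} (hx : orderOf x = q)
    {N : Subgroup (alternatingGroup (Fin 7))} (hN : ¬ q ∣ Nat.card N) (hxN : ∀ n ∈ N, x * n * x⁻¹ ∈ N) :
    Nat.card N ≡ 1 [MOD q] := by
  have : Fact q.Prime := ⟨prime_q hq⟩
  have h1 := BpSpor.Cen.card_fix hx hxN
  have h2 : Nat.card ↥(N ⊓ centralizer ({x} : Set (alternatingGroup (Fin 7)))) = 1 := by
    have h3 := card_dvd_of_le (inf_le_right : N ⊓ centralizer ({x} : Set (alternatingGroup (Fin 7))) ≤ _)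
    rw [card_cent_q hq hx] at h3
    rcases (Nat.dvd_prime (prime_q hq)).1 h3 with h | h
    · exact h
    · exact absurd (h ▸ card_dvd_of_le (inf_le_left : N ⊓ centralizer ({x} : Set (alternatingGroup (Fin 7))) ≤ N)) hN
  rwa [h2] at h1

/-- **F2** -/
theorem f2 {q : ℕ} (hq : q = 5 ∨ q = 7) {x : alternatingGroup (Fin 7)} (hx : orderOf x = q)
    {N : Subgroup (alternatingGroup (Fin 7))} (hN : Nat.card N = 4) (hxN : ∀ n ∈ N, x * n * x⁻¹ ∈ N) : False := by
  have h1 := card_mod hq hx (by rw [hN]; rcases hq with rfl | rfl <;> norm_num) hxN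
  rw [hN] at h1
  rcases hq with rfl | rfl <;> exact absurd h1 (by decide)

/-- the Sylow 2-subgroups are not commutative -/
theorem not_comm_eight {N : Subgroup (alternatingGroup (Fin 7))} (hN : Nat.card N = 8)
    (hc : ∀ a ∈ N, ∀ b ∈ N, a * b = b * a) : False := by
  have : Fact (Nat.Prime 2) := ⟨Nat.prime_two⟩
  have h1 : Nat.card N = 2 ^ (Nat.card (alternatingGroup (Fin 7))).factorization 2 := by
    rw [hN, card_A7]
    have : (2520 : ℕ).factorization 2 = 3 := by
      have : (2520 : ℕ) = 2 ^ 3 * 315 := by norm_num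
      rw [this, Nat.factorization_mul (by norm_num) (by norm_num), Nat.Prime.factorization_pow Nat.prime_two]
      simp [Nat.factorization_eq_zero_of_not_dvd (show ¬ 2 ∣ 315 by norm_num)]
    rw [this]
    norm_num
  let P : Sylow 2 (alternatingGroup (Fin 7)) := Sylow.ofCard N h1
  have h2 : IsPGroup 2 (zpowers u0) := by
    rw [IsPGroup.iff_card]
    exact ⟨2, by rw [Nat.card_zpowers, ct_four.2 ct_u0]; norm_num⟩
  obtain ⟨Q, hQ⟩ := h2.exists_le_sylow
  obtain ⟨g, hg⟩ := MulAction.exists_smul_eq (alternatingGroup (Fin 7)) Q P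
  have h3 : g * u0 * g⁻¹ ∈ N := by
    have h4 : g * u0 * g⁻¹ ∈ ((g • Q : Sylow 2 (alternatingGroup (Fin 7))) : Subgroup (alternatingGroup (Fin 7))) :=
      ⟨u0, hQ (mem_zpowers u0), rfl⟩
    rw [hg] at h4
    exact h4
  have h5 : orderOf (g * u0 * g⁻¹) = 4 := by
    have : g * u0 * g⁻¹ = MulAut.conj g u0 := rfl
    rw [this, MulEquiv.orderOf_eq]
    exact ct_four.2 ct_u0
  have h6 : N ≤ centralizer ({g * u0 * g⁻¹} : Set (alternatingGroup (Fin 7))) := fun a ha =>
    mem_centralizer_singleton_iff.2 (hc a ha _ h3)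
  have h8 := Subgroup.card_dvd_of_le h6
  rw [hN, f7 h5] at h8
  exact absurd h8 (by norm_num)

/-- solvable subgroups with an element of order 5 or 7 -/
theorem card_of_solvable {q : ℕ} (hq : q = 5 ∨ q = 7) {x : alternatingGroup (Fin 7)} (hx : orderOf x = q)
    {T : Subgroup (alternatingGroup (Fin 7))} (hxT : x ∈ T) (hs : Group.IsSolvable T) :
    Nat.card T ∣ q * (q - 1) := by
  have : Fact q.Prime := ⟨prime_q hq⟩
  have hqT : q ∣ Nat.card T := by
    rw [← hx]
    exact orderOf_dvd_natCard _ hxT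
  have hnt : Nontrivial T := by
    rw [← Finite.one_lt_card_iff_nontrivial]
    exact lt_of_lt_of_le (prime_q hq).one_lt (Nat.le_of_dvd Nat.card_pos hqT)
  obtain ⟨p, N, hp, hN, hNp, hNc, hNb⟩ := Lib.SolvableNormalP.exists_normal_pSubgroup T
  have : Fact p.Prime := ⟨hp⟩
  set M : Subgroup (alternatingGroup (Fin 7)) := N.map T.subtype with hM
  have hcM : Nat.card M = Nat.card N := card_map_of_injective T.subtype_injective
  have hTM : ∀ t ∈ T, ∀ n ∈ M, t * n * t⁻¹ ∈ M := by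
    rintro t ht _ ⟨n, hn, rfl⟩
    exact ⟨⟨t, ht⟩ * n * ⟨t, ht⟩⁻¹, hN.conj_mem n hn ⟨t, ht⟩, rfl⟩
  have hMc : ∀ a ∈ M, ∀ b ∈ M, a * b = b * a := by
    rintro _ ⟨a, ha, rfl⟩ _ ⟨b, hb, rfl⟩
    exact congrArg T.subtype (congrArg Subtype.val (hNc.is_comm.comm (⟨a, ha⟩ : N) ⟨b, hb⟩))
  obtain ⟨k, hk⟩ := IsPGroup.iff_card.1 hNp
  have hk0 : k ≠ 0 := by
    rintro rfl
    rw [pow_zero, card_eq_one] at hk
    exact hNb hk
  have hd : p ^ k ∣ 2520 := by
    rw [← hk, ← hcM, ← card_A7]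
    exact card_subgroup_dvd_card M
  by_cases hpq : p = q
  · subst hpq
    have hk1 : k = 1 := by
      by_contra hne
      exact (q_dvd hq).2 ((pow_dvd_pow p (by omega)).trans hd)
    rw [hk1, pow_one] at hk
    -- `M` is centralised by `x`
    have h1 := BpSpor.Cen.card_fix hx (hTM x hxT)
    have h2 : M ≤ centralizer ({x} : Set (alternatingGroup (Fin 7))) := by
      have h3 := card_dvd_of_le (inf_le_left : M ⊓ centralizer ({x} : Set (alternatingGroup (Fin 7))) ≤ M)
      rw [hcM, hk] at h3 h1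
      rcases (Nat.dvd_prime hp).1 h3 with h | h
      · rw [h] at h1
        have h4 : p ∣ 1 := (Nat.modEq_zero_iff_dvd).1 (h1.symm.trans (by simp [Nat.ModEq]))
        exact absurd (Nat.dvd_one.1 h4) hp.one_lt.ne'
      · have h4 : M ⊓ centralizer ({x} : Set (alternatingGroup (Fin 7))) = M :=
          eq_of_le_of_card_ge inf_le_left (by rw [h, hcM, hk])
        exact inf_eq_left.1 h4
    have h3 : M = centralizer ({x} : Set (alternatingGroup (Fin 7))) :=
      eq_of_le_of_card_ge h2 (by rw [card_cent_q hq hx, hcM, hk])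
    -- `T` acts on `N`
    have hcy : IsCyclic N := isCyclic_of_prime_card hk
    let φ : T →* MulAut N := MulAut.conjNormal
    have h4 : Nat.card φ.ker ∣ p := by
      have h5 : φ.ker.map T.subtype ≤ centralizer ({x} : Set (alternatingGroup (Fin 7))) := by
        rintro _ ⟨y, hy, rfl⟩
        have hxM : x ∈ M := by rw [h3]; exact mem_centralizer_singleton_iff.2 rfl
        obtain ⟨n, hn, hnx⟩ := hxM
        have h6 : φ y ⟨n, hn⟩ = ⟨n, hn⟩ := by rw [MonoidHom.mem_ker.1 hy]; rfl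
        have h7 := congrArg (fun z : N => ((z : T) : alternatingGroup (Fin 7))) h6
        have h8 : ((y : T) : alternatingGroup (Fin 7)) * x * (y : alternatingGroup (Fin 7))⁻¹ = x := by
          rw [← hnx]
          exact h7
        exact mem_centralizer_singleton_iff.2 (mul_inv_eq_iff_eq_mul.1 h8)
      have h6 := card_dvd_of_le h5
      rwa [card_map_of_injective T.subtype_injective, card_cent_q hq hx] at h6
    have h5 : Nat.card T = Nat.card φ.ker * Nat.card φ.range := by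
      rw [← Subgroup.index_ker, Subgroup.card_mul_index]
    have h6 : Nat.card φ.range ∣ p - 1 := by
      have h7 := card_subgroup_dvd_card φ.range
      rwa [IsCyclic.card_mulAut, hk, Nat.totient_prime hp] at h7
    rw [h5]
    exact Nat.mul_dvd_mul h4 h6
  · exfalso
    have hqM : ¬ q ∣ Nat.card M := by
      rw [hcM, hk]
      intro h
      exact hpq ((Nat.prime_dvd_prime_iff_eq (prime_q hq) hp).1 ((prime_q hq).dvd_of_dvd_pow h)).symm
    have h1 := card_mod hq hx hqM (hTM x hxT)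
    rw [hcM, hk] at h1
    have h8 : p ^ k = 8 := by
      have hp2520 : p ∣ 2520 := (dvd_pow_self p hk0).trans hd
      have hmem : p ∈ ({2, 3, 5, 7} : Finset ℕ) := by
        have h2 : p ∈ Nat.primeFactors 2520 := Nat.mem_primeFactors.2 ⟨hp, hp2520, by norm_num⟩
        have h3 : Nat.primeFactors 2520 = {2, 3, 5, 7} := by decide +kernel
        rwa [h3] at h2
      have hk4 : k < 4 := by
        by_contra hcon
        have h4 : p ^ 4 ∣ 2520 := (pow_dvd_pow p (by omega)).trans hd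
        simp only [Finset.mem_insert, Finset.mem_singleton] at hmem
        rcases hmem with rfl | rfl | rfl | rfl <;> norm_num at h4
      simp only [Finset.mem_insert, Finset.mem_singleton] at hmem
      unfold Nat.ModEq at h1
      rcases hq with rfl | rfl <;> rcases hmem with rfl | rfl | rfl | rfl <;> interval_cases k <;> omega
    exact not_comm_eight (by rw [hcM, hk, h8]) hMc

/-- **F1** -/
theorem f1 {q : ℕ} (hq : q = 5 ∨ q = 7) {x : alternatingGroup (Fin 7)} (hx : orderOf x = q)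
    {T : Subgroup (alternatingGroup (Fin 7))} (hxT : x ∈ T) (h8 : 8 ∣ Nat.card T) : ¬ Group.IsSolvable T := by
  intro hs
  have h1 := h8.trans (card_of_solvable hq hx hxT hs)
  rcases hq with rfl | rfl <;> norm_num at h1

end Cfsg.Agent.H681.Sev.A7
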