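import Cfsg.Agent.H596.OneSing
import Cfsg.Agent.H672.Ext

/-!
# Extension of an invariant linear character of `r`-power order, small Sylow `r`-subgroup of the quotient
-/

set_option autoImplicit false

namespace Cfsg.Agent.H681.Sev.Ext

open Cfsg Subgroup Cfsg.Agent.H672

universe u

theorem ext_aux {H : Type u} [Group H] [Finite H] (N : Subgroup H) [hN : N.Normal] {r k : ℕ} [hr : Fact r.Prime]
    (l : N →* ℂˣ) (hl : ∀ n, l n ^ r ^ k = 1)
    (hinv : ∀ (g : H) (n : N), l ⟨g * n * g⁻¹, hN.conj_mem n n.2 g⟩ = l n) (hd : ¬ r ^ 2 ∣ N.index) :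
    ∃ F : H →* ℂˣ, ∀ n : N, F n = l n := by
  obtain ⟨P⟩ : Nonempty (Sylow r H) := inferInstance
  set K : Subgroup H := N ⊔ (P : Subgroup H) with hK
  obtain ⟨k0, hk0⟩ := inclK_range_index N P
  rw [inclK_range] at hk0
  obtain ⟨j, -, hj⟩ := (Nat.dvd_prime_pow hr.out).1 hk0
  have hj1 : j < 2 := by
    by_contra hcon
    apply hd
    have h1 : (N.subgroupOf K).index ∣ N.index := relIndex_dvd_index_of_le le_sup_left
    rw [hj] at h1
    exact (pow_dvd_pow r (by omega)).trans h1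
  have hn : (N.subgroupOf K).Normal := inferInstance
  have hcyc : IsCyclic (K ⧸ N.subgroupOf K) := by
    have h1 : Nat.card (K ⧸ N.subgroupOf K) = r ^ j := hj
    interval_cases j
    · rw [pow_zero] at h1
      have := (Nat.card_eq_one_iff_unique.1 h1).1
      exact isCyclic_of_subsingleton
    · rw [pow_one] at h1
      exact isCyclic_of_prime_card h1
  obtain ⟨ν, hν⟩ := H596.OneSing.ext_of_cyclic (N.subgroupOf K) hcyc
    (l.comp (subgroupOfEquivOfLe (le_sup_left : N ≤ K)).toMonoidHom) (fun g n => hinv g ⟨n, n.2⟩)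
  obtain ⟨m, hm⟩ := lin_extends_to N P K ⊤ le_sup_left le_sup_right le_top l hl
    (fun g _ => (mem_inertia_lf N).2 (fun n => hinv g n)) ν
    (fun n => hν ⟨⟨n, (le_sup_left : N ≤ K) n.2⟩, n.2⟩)
  refine ⟨m.comp (topEquiv (G := H)).symm.toMonoidHom, fun n => ?_⟩
  rw [← hm n]
  rfl

/-- An invariant linear character of `V` of `r`-power order extends to `I` if `r² ∤ |I : V|`. -/
theorem extends_of_sq {K : Type u} [Group K] [Finite K] (V : Subgroup K) [hV : V.Normal] {r k : ℕ} [Fact r.Prime]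
    (lam : V →* ℂˣ) (hl : ∀ v, lam v ^ r ^ k = 1) (I : Subgroup K) (hVI : V ≤ I)
    (hinv : ∀ g ∈ I, ∀ n : V, lam ⟨g * n * g⁻¹, hV.conj_mem n n.2 g⟩ = lam n)
    (hd : ¬ r ^ 2 ∣ V.relIndex I) : ∃ μ : I →* ℂˣ, ∀ v : V, μ ⟨v, hVI v.2⟩ = lam v := by
  obtain ⟨F, hF⟩ := ext_aux (V.subgroupOf I) (lam.comp (subgroupOfEquivOfLe hVI).toMonoidHom) (k := k)
    (fun n => hl _) (fun g n => hinv g g.2 ⟨n, n.2⟩) hd
  exact ⟨F, fun v => hF ⟨⟨v, hVI v.2⟩, v.2⟩⟩

end Cfsg.Agent.H681.Sev.Ext
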