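import Cfsg.Agent.H681.Sev.Nine

/-!
# Actions of `A₇` with large stabilizers of the points fixed by an element of order five
-/

set_option autoImplicit false

namespace Cfsg.Agent.H681.Sev.FixFive

open Equiv Equiv.Perm Subgroup Cfsg.Agent.H681.Sev.A7 Cfsg.Agent.H681.Sev.Nine

theorem frame {x : alternatingGroup (Fin 7)} (hx : orderOf x = 5) : ∃ (w : alternatingGroup (Fin 7)) (a b : Fin 7),
    a ≠ b ∧ (∀ i, (x : Perm (Fin 7)) i = i ↔ i = a ∨ i = b) ∧ (w : Perm (Fin 7)) a = b ∧ (w : Perm (Fin 7)) b = a ∧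
      w * x * w⁻¹ = x ^ 2 := by
  obtain ⟨c, rfl⟩ := exists_cj (g := x0) (g' := x) (by rw [ct_x0, ct_five.1 hx])
  have h0 : ∀ i : Fin 7, (x0 : Perm (Fin 7)) i = i ↔ i = 5 ∨ i = 6 := by decide +kernel
  have h1 : (u0 : Perm (Fin 7)) 5 = 6 := by decide +kernel
  have h2 : (u0 : Perm (Fin 7)) 6 = 5 := by decide +kernel
  refine ⟨cj c u0, c 5, c 6, ?_, ?_, ?_, ?_, ?_⟩
  · intro h
    exact absurd (c.injective h) (by decide)
  · intro i
    rw [coe_cj, Perm.mul_apply, Perm.mul_apply, ← Equiv.eq_symm_apply]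
    have : (Equiv.symm c) i = c⁻¹ i := rfl
    rw [this, h0, Perm.inv_eq_iff_eq, Perm.inv_eq_iff_eq]
  · rw [coe_cj, Perm.mul_apply, Perm.mul_apply, show c⁻¹ (c 5) = 5 from c.symm_apply_apply 5, h1]
  · rw [coe_cj, Perm.mul_apply, Perm.mul_apply, show c⁻¹ (c 6) = 6 from c.symm_apply_apply 6, h2]
  · rw [← map_inv, ← map_mul, ← map_mul, ← map_pow, rel_u0]

theorem card_stab (p : Fin 7) : Nat.card (MulAction.stabilizer (alternatingGroup (Fin 7)) p) = 360 := by
  have h0 : MulAction.IsPretransitive (alternatingGroup (Fin 7)) (Fin 7) :=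
    alternatingGroup.isPretransitive_of_three_le_card _ (by simp)
  have h1 := MulAction.index_stabilizer_of_transitive (alternatingGroup (Fin 7)) p
  have h2 := (MulAction.stabilizer (alternatingGroup (Fin 7)) p).card_mul_index
  have h3 : Nat.card (Fin 7) = 7 := by rw [Nat.card_eq_fintype_card, Fintype.card_fin]
  rw [h1, card_A7, h3] at h2
  omega

/-- a subgroup of order divisible by 180 of a point stabilizer contains its elements of order 3 -/
theorem mem_of_stab {H : Subgroup (alternatingGroup (Fin 7))} {p : Fin 7}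
    (hp : ∀ t ∈ H, (t : Perm (Fin 7)) p = p) (h : 180 ∣ Nat.card H) {d : alternatingGroup (Fin 7)}
    (hd : (d : Perm (Fin 7)) p = p) (hd3 : orderOf d = 3) : d ∈ H := by
  set S := MulAction.stabilizer (alternatingGroup (Fin 7)) p with hS
  have hHS : H ≤ S := fun t ht => MulAction.mem_stabilizer_iff.2 (hp t ht)
  have hdS : d ∈ S := MulAction.mem_stabilizer_iff.2 hd
  have h1 : Nat.card H * H.relIndex S = 360 := by
    have h2 := (H.subgroupOf S).card_mul_index
    rw [Nat.card_congr (subgroupOfEquivOfLe hHS).toEquiv, hS, card_stab p] at h2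
    exact h2
  obtain ⟨k, hk⟩ := h
  have h3 : k * H.relIndex S = 2 := by
    rw [hk] at h1
    have : 180 * (k * H.relIndex S) = 180 * 2 := by rw [← mul_assoc, h1]
    exact Nat.eq_of_mul_eq_mul_left (by norm_num) this
  have h4 : H.relIndex S ∣ 2 := ⟨k, by rw [mul_comm, h3]⟩
  have h5 : (⟨d, hdS⟩ : S) * ⟨d, hdS⟩ ∈ H.subgroupOf S := by
    rcases (Nat.dvd_prime Nat.prime_two).1 h4 with h5 | h5
    · rw [Subgroup.relIndex_eq_one] at h5
      exact h5 (S.mul_mem hdS hdS)
    · exact Subgroup.mul_self_mem_of_index_two h5 _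
  have h6 : d * d ∈ H := h5
  have h7 : d * d * (d * d) = d := by
    have h8 : d ^ 3 = 1 := by rw [← hd3]; exact pow_orderOf_eq_one d
    calc d * d * (d * d) = d ^ 3 * d := by rw [pow_succ, pow_two]; simp only [mul_assoc]
      _ = d := by rw [h8, one_mul]
  rw [← h7]
  exact H.mul_mem h6 h6

variable {M : Type*} [CommGroup M] [MulDistribMulAction (alternatingGroup (Fin 7)) M]

local notation "St" => MulAction.stabilizer (alternatingGroup (Fin 7))

theorem fix_five (h : ∀ (m : M) (x : alternatingGroup (Fin 7)), m ≠ 1 → x • m = m → orderOf x = 5 →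
      180 ∣ Nat.card (St m) ∧ St m ≠ ⊤) {x : alternatingGroup (Fin 7)} (hx : orderOf x = 5) {m : M}
    (hm : x • m = m) : m = 1 := by
  by_contra hm1
  obtain ⟨w, a, b, hab, hfix, hwa, hwb, hw⟩ := frame hx
  -- stabilizers fix `a` or `b`
  have key : ∀ n : M, n ≠ 1 → x • n = n →
      ((∀ t ∈ St n, (t : Perm (Fin 7)) a = a) ∨ (∀ t ∈ St n, (t : Perm (Fin 7)) b = b)) := by
    intro n hn hxn
    obtain ⟨h1, h2⟩ := h n x hn hxn hx
    obtain ⟨p, hp⟩ := five ((by norm_num : (9 : ℕ) ∣ 180).trans h1) (MulAction.mem_stabilizer_iff.2 hxn) hx h2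
    rcases (hfix p).1 (hp x (MulAction.mem_stabilizer_iff.2 hxn)) with rfl | rfl
    · exact Or.inl hp
    · exact Or.inr hp
  -- no stabilizer fixes both
  have nboth : ∀ n : M, n ≠ 1 → x • n = n → (∀ t ∈ St n, (t : Perm (Fin 7)) a = a) →
      (∀ t ∈ St n, (t : Perm (Fin 7)) b = b) → False := by
    intro n hn hxn ha hb
    obtain ⟨d, hd, hdc⟩ := exists_three_three ((by norm_num : (9 : ℕ) ∣ 180).trans (h n x hn hxn hx).1)
    exact hab (fix_unique hdc (ha d hd) (hb d hd))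
  set m' : M := w⁻¹ • m with hm'
  have hm'1 : m' ≠ 1 := by
    intro h0
    apply hm1
    have : m = w • m' := by rw [hm', smul_inv_smul]
    rw [this, h0, smul_one]
  have hxm' : x • m' = m' := by
    have h1 : x * w⁻¹ = w⁻¹ * x ^ 2 := by rw [← hw]; group
    rw [hm', ← mul_smul, h1, mul_smul, pow_two, mul_smul, hm, hm]
  have hst : ∀ t, t ∈ St m' → w * t * w⁻¹ ∈ St m := by
    intro t ht
    rw [MulAction.mem_stabilizer_iff] at ht ⊢
    rw [mul_smul, mul_smul, ← hm', ht, hm', smul_inv_smul]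
  have hwa' : ∀ {p q : Fin 7}, (w : Perm (Fin 7)) p = q → (∀ t ∈ St m, (t : Perm (Fin 7)) q = q) →
      ∀ t ∈ St m', (t : Perm (Fin 7)) p = p := by
    intro p q hpq hq t ht
    have h1 := hq _ (hst t ht)
    have h2 : ((w * t * w⁻¹ : alternatingGroup (Fin 7)) : Perm (Fin 7)) q =
        (w : Perm (Fin 7)) ((t : Perm (Fin 7)) p) := by
      rw [Subgroup.coe_mul, Subgroup.coe_mul, Subgroup.coe_inv, Perm.mul_apply, Perm.mul_apply, ← hpq,
        show (w : Perm (Fin 7))⁻¹ ((w : Perm (Fin 7)) p) = p from (w : Perm (Fin 7)).symm_apply_apply p]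
    rw [h2, ← hpq] at h1
    exact (w : Perm (Fin 7)).injective h1
  -- two characters with stabilizers fixing the same point
  have two : ∀ (p q : Fin 7) (n₁ n₂ n₃ : M), p ≠ q → n₁ ≠ 1 → n₂ ≠ 1 → x • n₁ = n₁ → x • n₂ = n₂ →
      (∀ t ∈ St n₁, (t : Perm (Fin 7)) p = p) → (∀ t ∈ St n₂, (t : Perm (Fin 7)) p = p) →
      (∀ t : alternatingGroup (Fin 7), t • n₁ = n₁ → t • n₂ = n₂ → t • n₃ = n₃) → (∀ t ∈ St n₃, (t : Perm (Fin 7)) q = q) → False := by
    intro p q n₁ n₂ n₃ hpq h1 h2 hx1 hx2 hp1 hp2 h12 hq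
    obtain ⟨d, hd, hdc⟩ := exists_three_three ((by norm_num : (9 : ℕ) ∣ 180).trans (h n₁ x h1 hx1 hx).1)
    have hd3 : orderOf d = 3 := by
      rw [← Subgroup.orderOf_coe, ← lcm_cycleType, hdc]
      decide
    have hd2 : d ∈ St n₂ := mem_of_stab hp2 (h n₂ x h2 hx2 hx).1 (hp1 d hd) hd3
    have hd3 : d ∈ St n₃ := MulAction.mem_stabilizer_iff.2
      (h12 d (MulAction.mem_stabilizer_iff.1 hd) (MulAction.mem_stabilizer_iff.1 hd2))
    exact hpq (fix_unique hdc (hp1 d hd) (hq d hd3))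
  -- the product
  have hx'' : x • (m * m') = m * m' := by rw [smul_mul', hm, hxm']
  have hc1 : ∀ t : alternatingGroup (Fin 7), t • m = m → t • (m * m') = m * m' → t • m' = m' := by
    intro t h1 h2
    rw [smul_mul', h1] at h2
    exact mul_left_cancel h2
  have hc2 : ∀ t : alternatingGroup (Fin 7), t • m' = m' → t • (m * m') = m * m' → t • m = m := by
    intro t h1 h2
    rw [smul_mul', h1] at h2
    exact mul_right_cancel h2
  have fin : ∀ p q : Fin 7, p ≠ q → (∀ t ∈ St m, (t : Perm (Fin 7)) p = p) → (∀ t ∈ St m', (t : Perm (Fin 7)) q = q) →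
      (∀ n : M, n ≠ 1 → x • n = n →
      ((∀ t ∈ St n, (t : Perm (Fin 7)) p = p) ∨ (∀ t ∈ St n, (t : Perm (Fin 7)) q = q))) →
      (∀ n : M, n ≠ 1 → x • n = n → (∀ t ∈ St n, (t : Perm (Fin 7)) p = p) →
      (∀ t ∈ St n, (t : Perm (Fin 7)) q = q) → False) → False := by
    intro p q hpq hp hq hkey hnb
    by_cases h0 : m * m' = 1
    · have h1 : m = m'⁻¹ := eq_inv_of_mul_eq_one_left h0
      refine hnb m' hm'1 hxm' ?_ hq
      intro t ht
      apply hp
      rw [MulAction.mem_stabilizer_iff] at ht ⊢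
      rw [h1, smul_inv', ht]
    · rcases hkey _ h0 hx'' with h1 | h1
      · exact two p q m (m * m') m' hpq hm1 h0 hm hx'' hp h1 hc1 hq
      · exact two q p m' (m * m') m hpq.symm hm'1 h0 hxm' hx'' hq h1 hc2 hp
  rcases key m hm1 hm with h1 | h1
  · exact fin a b hab h1 (hwa' hwb h1) key nboth
  · exact fin b a hab.symm h1 (hwa' hwa h1) (fun n h2 h3 => (key n h2 h3).symm)
      (fun n h2 h3 h4 h5 => nboth n h2 h3 h5 h4)

end Cfsg.Agent.H681.Sev.FixFive
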