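import Cfsg.Agent.H681.Sev.Odd
import Cfsg.Agent.H955.PSq.Seven
import Cfsg.Agent.S5009

/-!
# S4844, PS-12: `seven_odd`
-/

set_option autoImplicit false

namespace Cfsg.Agent.H681.Sev.Main

open Cfsg Subgroup Cfsg.Agent.H33

universe u

theorem fact5009 : Sub.Fact5009.{u} := fun T _ _ h => Cfsg.Agent.S5009.result (not_IM_iff.1 h)

theorem key : Odd.Key.{u} := fun _ _ _ _ _ _ hr hr2 hM hn h5 h2 => H955.PSq.key hr hr2 hM hn h5 h2

/-- **PS-12**: `K/V = A₇`, `V` a non-central minimal normal subgroup of odd order. -/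
theorem seven_odd {K : Type u} [Group K] [Finite K] (_hK : commutator K = ⊤) {V : Subgroup K} [V.Normal]
    (hab : IsMulCommutative V) (hodd : Odd (Nat.card V))
    (hmin : ∀ N : Subgroup K, N.Normal → N ≤ V → N = ⊥ ∨ N = V) (hnc : ¬ V ≤ center K)
    (e : Nonempty (K ⧸ V ≃* alternatingGroup (Fin 7))) : H33.IM 4 K :=
  Odd.main key fact5009 hab hodd hmin hnc e

end Cfsg.Agent.H681.Sev.Main
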