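import Cfsg.Agent.H681.Sev.A7
import Mathlib.GroupTheory.GroupAction.Jordan

/-!
# Subgroups of `A₇` of order divisible by 9
-/

set_option autoImplicit false

namespace Cfsg.Agent.H681.Sev.Nine

open Equiv Equiv.Perm Subgroup Cfsg.Agent.H681.Sev.A7

/-- a subgroup of order divisible by 9 contains conjugates of all elements of order 3 -/
theorem exists_conj_mem {T : Subgroup (alternatingGroup (Fin 7))} (h9 : 9 ∣ Nat.card T)
    {c : alternatingGroup (Fin 7)} (hc : orderOf c = 3) :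
    ∃ d ∈ T, (d : Perm (Fin 7)).cycleType = (c : Perm (Fin 7)).cycleType := by
  have : Fact (Nat.Prime 3) := ⟨Nat.prime_three⟩
  obtain ⟨N₀, hN₀⟩ := Sylow.exists_subgroup_card_pow_prime 3 (n := 2) (by simpa using h9)
  set N : Subgroup (alternatingGroup (Fin 7)) := N₀.map T.subtype with hN
  have hNT : N ≤ T := by
    rintro _ ⟨y, -, rfl⟩
    exact y.2
  have hcN : Nat.card N = 3 ^ (Nat.card (alternatingGroup (Fin 7))).factorization 3 := by
    rw [card_map_of_injective T.subtype_injective, hN₀, card_A7]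
    have : (2520 : ℕ).factorization 3 = 2 := by
      have : (2520 : ℕ) = 3 ^ 2 * 280 := by norm_num
      rw [this, Nat.factorization_mul (by norm_num) (by norm_num), Nat.Prime.factorization_pow Nat.prime_three]
      simp [Nat.factorization_eq_zero_of_not_dvd (show ¬ 3 ∣ 280 by norm_num)]
    rw [this]
  let P : Sylow 3 (alternatingGroup (Fin 7)) := Sylow.ofCard N hcN
  have h2 : IsPGroup 3 (zpowers c) := by
    rw [IsPGroup.iff_card]
    exact ⟨1, by rw [Nat.card_zpowers, hc]; norm_num⟩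
  obtain ⟨Q, hQ⟩ := h2.exists_le_sylow
  obtain ⟨g, hg⟩ := MulAction.exists_smul_eq (alternatingGroup (Fin 7)) Q P
  refine ⟨g * c * g⁻¹, hNT ?_, ?_⟩
  · have h4 : g * c * g⁻¹ ∈ ((g • Q : Sylow 3 (alternatingGroup (Fin 7))) : Subgroup (alternatingGroup (Fin 7))) :=
      ⟨c, hQ (mem_zpowers c), rfl⟩
    rw [hg] at h4
    exact h4
  · exact cycleType_conj

def c3 : alternatingGroup (Fin 7) := ⟨c[0, 1, 2], mem_alternatingGroup.2 (by decide +kernel)⟩
def c33 : alternatingGroup (Fin 7) := ⟨c[0, 1, 2] * c[3, 4, 5], mem_alternatingGroup.2 (by decide +kernel)⟩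

theorem ct_c3 : (c3 : Perm (Fin 7)).cycleType = {3} := by decide +kernel
theorem ct_c33 : (c33 : Perm (Fin 7)).cycleType = {3, 3} := by decide +kernel

theorem order_c3 : orderOf c3 = 3 := by
  rw [← Subgroup.orderOf_coe, ← lcm_cycleType, ct_c3]
  decide

theorem order_c33 : orderOf c33 = 3 := by
  rw [← Subgroup.orderOf_coe, ← lcm_cycleType, ct_c33]
  decide

theorem exists_three {T : Subgroup (alternatingGroup (Fin 7))} (h9 : 9 ∣ Nat.card T) :
    ∃ d ∈ T, (d : Perm (Fin 7)).cycleType = {3} := by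
  obtain ⟨d, hd, h⟩ := exists_conj_mem h9 order_c3
  exact ⟨d, hd, h.trans ct_c3⟩

theorem exists_three_three {T : Subgroup (alternatingGroup (Fin 7))} (h9 : 9 ∣ Nat.card T) :
    ∃ d ∈ T, (d : Perm (Fin 7)).cycleType = {3, 3} := by
  obtain ⟨d, hd, h⟩ := exists_conj_mem h9 order_c33
  exact ⟨d, hd, h.trans ct_c33⟩

/-- an element of type (3,3) has one fixed point -/
theorem fix_unique {d : Perm (Fin 7)} (hd : d.cycleType = {3, 3}) {a b : Fin 7} (ha : d a = a) (hb : d b = b) :
    a = b := by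
  by_contra hne
  have h1 : d.support.card = 6 := by
    rw [← sum_cycleType, hd]
    decide
  have h2 : d.support ⊆ ({a, b} : Finset (Fin 7))ᶜ := by
    intro i hi
    rw [Finset.mem_compl, Finset.mem_insert, Finset.mem_singleton]
    rintro (rfl | rfl)
    · exact (mem_support.1 hi) ha
    · exact (mem_support.1 hi) hb
  have h3 := Finset.card_le_card h2
  rw [h1, Finset.card_compl, Finset.card_pair hne, Fintype.card_fin] at h3
  omega

/-- **Jordan** -/
theorem top_of {T : Subgroup (alternatingGroup (Fin 7))} (h9 : 9 ∣ Nat.card T)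
    (htr : ∀ i j : Fin 7, ∃ t ∈ T, (t : Perm (Fin 7)) i = j) : T = ⊤ := by
  set G : Subgroup (Perm (Fin 7)) := T.map (alternatingGroup (Fin 7)).subtype with hG
  have h1 : MulAction.IsPretransitive G (Fin 7) := ⟨fun i j => by
    obtain ⟨t, ht, h⟩ := htr i j
    exact ⟨⟨t, ⟨t, ht, rfl⟩⟩, h⟩⟩
  have h2 : MulAction.IsPreprimitive G (Fin 7) := MulAction.IsPreprimitive.of_prime_card (by
    rw [Nat.card_eq_fintype_card, Fintype.card_fin]
    norm_num)
  obtain ⟨d, hd, hdc⟩ := exists_three h9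
  have h3 : alternatingGroup (Fin 7) ≤ G :=
    alternatingGroup_le_of_isPreprimitive_of_isThreeCycle_mem h2 (g := d) hdc ⟨d, hd, rfl⟩
  rw [eq_top_iff]
  intro g _
  obtain ⟨g', hg', e⟩ := h3 g.2
  rwa [show g = g' from Subtype.ext e.symm]

theorem rel_of_cycle {T : Subgroup (alternatingGroup (Fin 7))} {x : alternatingGroup (Fin 7)} (hxT : x ∈ T) {k : ℕ}
    (hk : (x : Perm (Fin 7)).cycleType = {k}) {i j : Fin 7} (hi : (x : Perm (Fin 7)) i ≠ i)
    (hj : (x : Perm (Fin 7)) j ≠ j) : ∃ t ∈ T, (t : Perm (Fin 7)) i = j := by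
  have h1 : (x : Perm (Fin 7)).IsCycle := by
    rw [← card_cycleType_eq_one, hk]
    rfl
  obtain ⟨n, hn⟩ := h1.exists_zpow_eq hi hj
  exact ⟨x ^ n, T.zpow_mem hxT n, by rw [Subgroup.coe_zpow]; exact hn⟩

/-- **G2** -/
theorem seven {T : Subgroup (alternatingGroup (Fin 7))} (h9 : 9 ∣ Nat.card T) {x : alternatingGroup (Fin 7)}
    (hxT : x ∈ T) (hx : orderOf x = 7) : T = ⊤ := by
  have hk := ct_seven.1 hx
  have hs : ∀ i : Fin 7, (x : Perm (Fin 7)) i ≠ i := by
    intro i
    rw [← mem_support]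
    have h1 : (x : Perm (Fin 7)).support = Finset.univ := by
      rw [← Finset.card_eq_iff_eq_univ, ← sum_cycleType, hk]
      decide
    rw [h1]
    exact Finset.mem_univ i
  exact top_of h9 fun i j => rel_of_cycle hxT hk (hs i) (hs j)

/-- **G1** -/
theorem five {T : Subgroup (alternatingGroup (Fin 7))} (h9 : 9 ∣ Nat.card T) {x : alternatingGroup (Fin 7)}
    (hxT : x ∈ T) (hx : orderOf x = 5) (hT : T ≠ ⊤) : ∃ a : Fin 7, ∀ t ∈ T, (t : Perm (Fin 7)) a = a := by
  have hk := ct_five.1 hx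
  have h1 : (x : Perm (Fin 7)).supportᶜ.card = 2 := by
    rw [Finset.card_compl, ← sum_cycleType, hk]
    decide
  obtain ⟨a, b, hab, hs⟩ := Finset.card_eq_two.1 h1
  have hfix : ∀ i, (x : Perm (Fin 7)) i = i ↔ i = a ∨ i = b := by
    intro i
    rw [← notMem_support, ← Finset.mem_compl, hs, Finset.mem_insert, Finset.mem_singleton]
  have hrel : ∀ i j, ¬ (i = a ∨ i = b) → ¬ (j = a ∨ j = b) → ∃ t ∈ T, (t : Perm (Fin 7)) i = j := fun i j hi hj =>
    rel_of_cycle hxT hk (fun h => hi ((hfix i).1 h)) (fun h => hj ((hfix j).1 h))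
  have trans' : ∀ {i j k : Fin 7}, (∃ t ∈ T, (t : Perm (Fin 7)) i = j) → (∃ t ∈ T, (t : Perm (Fin 7)) j = k) →
      ∃ t ∈ T, (t : Perm (Fin 7)) i = k := by
    rintro i j k ⟨t, ht, rfl⟩ ⟨s, hs, rfl⟩
    exact ⟨s * t, T.mul_mem hs ht, rfl⟩
  have symm' : ∀ {i j : Fin 7}, (∃ t ∈ T, (t : Perm (Fin 7)) i = j) → ∃ t ∈ T, (t : Perm (Fin 7)) j = i := by
    rintro i j ⟨t, ht, rfl⟩
    exact ⟨t⁻¹, T.inv_mem ht, by simp⟩
  obtain ⟨d, hd, hdc⟩ := exists_three_three h9
  by_cases hA : ∃ i, ¬ (i = a ∨ i = b) ∧ ∃ t ∈ T, (t : Perm (Fin 7)) a = i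
  · by_cases hB : ∃ i, ¬ (i = a ∨ i = b) ∧ ∃ t ∈ T, (t : Perm (Fin 7)) b = i
    · exfalso
      apply hT
      obtain ⟨i, hi, hi'⟩ := hA
      obtain ⟨j, hj, hj'⟩ := hB
      have key : ∀ l, ∃ t ∈ T, (t : Perm (Fin 7)) l = i := by
        intro l
        by_cases hl : l = a ∨ l = b
        · rcases hl with rfl | rfl
          · exact hi'
          · exact trans' hj' (hrel j i hj hi)
        · exact hrel l i hl hi
      exact top_of h9 fun l m => trans' (key l) (symm' (key m))
    · refine ⟨b, fun t ht => ?_⟩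
      by_contra hne
      obtain ⟨i, hi, hi'⟩ := hA
      rcases Decidable.em ((t : Perm (Fin 7)) b = a ∨ (t : Perm (Fin 7)) b = b) with h | h
      · rcases h with h | h
        · exact hB ⟨i, hi, trans' ⟨t, ht, h⟩ hi'⟩
        · exact hne h
      · exact hB ⟨_, h, t, ht, rfl⟩
  · by_cases hB : ∃ i, ¬ (i = a ∨ i = b) ∧ ∃ t ∈ T, (t : Perm (Fin 7)) b = i
    · refine ⟨a, fun t ht => ?_⟩
      by_contra hne
      obtain ⟨i, hi, hi'⟩ := hB
      rcases Decidable.em ((t : Perm (Fin 7)) a = a ∨ (t : Perm (Fin 7)) a = b) with h | h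
      · rcases h with h | h
        · exact hne h
        · exact hA ⟨i, hi, trans' ⟨t, ht, h⟩ hi'⟩
      · exact hA ⟨_, h, t, ht, rfl⟩
    · exfalso
      -- `d` permutes `{a, b}`
      have hda : (d : Perm (Fin 7)) a = a ∨ (d : Perm (Fin 7)) a = b := by
        by_contra h
        exact hA ⟨_, h, d, hd, rfl⟩
      have hdb : (d : Perm (Fin 7)) b = a ∨ (d : Perm (Fin 7)) b = b := by
        by_contra h
        exact hB ⟨_, h, d, hd, rfl⟩
      have h3 : (d : Perm (Fin 7)) ^ 3 = 1 := by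
        have : orderOf (d : Perm (Fin 7)) = 3 := by rw [← lcm_cycleType, hdc]; decide
        rw [← this]
        exact pow_orderOf_eq_one _
      have h3' : ∀ i, (d : Perm (Fin 7)) ((d : Perm (Fin 7)) ((d : Perm (Fin 7)) i)) = i := fun i => by
        have := congrArg (fun s : Perm (Fin 7) => s i) h3
        simpa [pow_succ] using this
      rcases hda with ha | ha
      · rcases hdb with hb | hb
        · exact hab ((d : Perm (Fin 7)).injective (ha.trans hb.symm))
        · exact hab (fix_unique hdc ha hb)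
      · rcases hdb with hb | hb
        · have := h3' a
          rw [ha, hb, ha] at this
          exact hab this.symm
        · exact hab ((d : Perm (Fin 7)).injective (ha.trans hb.symm))

end Cfsg.Agent.H681.Sev.Nine
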