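import Cfsg.Agent.H681.Sev.A7
import Cfsg.Agent.H33.IM
import Cfsg.Agent.H596.Degree
import Cfsg.Agent.H677.CodPrime
import Cfsg.Agent.H672.Lin

/-!
# Degrees of the proper subgroups of `A₇` with elements of order 5 or 7
-/

set_option autoImplicit false

namespace Cfsg.Agent.H681.Sev.Sub

open Cfsg Subgroup Cfsg.Agent.H33 Cfsg.Agent.H681.Sev.A7

universe u

/-- the statement of S5009 -/
def Fact5009 : Prop := ∀ (T : Type u) [Group T] [Finite T], ¬ IM 4 T →
  Group.IsSolvable T ∨ ∃ N : Subgroup T, ∃ _ : N.Normal, Group.IsSolvable N ∧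
    Nonempty (T ⧸ N ≃* alternatingGroup (Fin 7))

theorem index_two {T : Subgroup (alternatingGroup (Fin 7))} (h4 : ¬ 4 ∣ T.index) : 4 ∣ Nat.card T := by
  have h1 := T.card_mul_index
  rw [card_A7] at h1
  by_contra hcon
  have h2 : ¬ 8 ∣ Nat.card T * T.index := by
    intro h8
    rcases Nat.even_or_odd (T.index) with he | ho
    · obtain ⟨a, ha⟩ := he
      have h3 : Odd a := by
        by_contra hc
        rw [Nat.not_odd_iff_even] at hc
        obtain ⟨b, hb⟩ := hc
        exact h4 ⟨b, by omega⟩
      have h4' : 4 ∣ Nat.card T * a := by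
        rw [ha] at h8
        obtain ⟨c, hc⟩ := h8
        exact ⟨c, by nlinarith⟩
      have h5 : Nat.Coprime 4 a := by
        have : Nat.Coprime (2 ^ 2) a := Nat.Coprime.pow_left 2 (Nat.coprime_two_left.2 h3)
        simpa using this
      exact hcon (h5.dvd_of_dvd_mul_right h4')
    · have h5 : Nat.Coprime 4 T.index := by
        have : Nat.Coprime (2 ^ 2) T.index := Nat.Coprime.pow_left 2 (Nat.coprime_two_left.2 ho)
        simpa using this
      exact hcon (h5.dvd_of_dvd_mul_right ((by norm_num : (4 : ℕ) ∣ 8).trans h8))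
  exact h2 (by rw [h1]; norm_num)

/-- A proper subgroup `T` of `A₇` with an element of order 5 or 7 has an irreducible character `η` with
`4 ∣ |A₇ : T| η(1)`. -/
theorem main (h5009 : Fact5009.{0}) {q : ℕ} (hq : q = 5 ∨ q = 7) {x : alternatingGroup (Fin 7)} (hx : orderOf x = q)
    {T : Subgroup (alternatingGroup (Fin 7))} (hxT : x ∈ T) (hT : T ≠ ⊤) :
    ∃ η : T → ℂ, IsIrrCharacter T η ∧ 4 ∣ T.index * charDegree η := by
  by_cases h4 : 4 ∣ T.index
  · exact ⟨H672.lf (1 : T →* ℂˣ), H672.isIrr_lf 1, h4.mul_right _⟩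
  have h4T := index_two h4
  have hprop : Nat.card T < 2520 := by
    rw [← card_A7]
    refine lt_of_le_of_ne (card_le_card_group T) fun h => hT ?_
    exact eq_top_of_card_eq T h
  have hsol : ¬ IM 4 T → Group.IsSolvable T := by
    intro h
    rcases h5009 T h with h | ⟨N, hN, -, ⟨e⟩⟩
    · exact h
    · exfalso
      have h1 := Nat.card_congr e.toEquiv
      rw [card_A7] at h1
      have h2 := N.card_quotient_dvd_card
      rw [h1] at h2
      have h3 := Nat.le_of_dvd Nat.card_pos h2
      omega
  have hcard : IM 4 T ∨ Nat.card T ∣ q * (q - 1) := by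
    by_contra hcon
    push Not at hcon
    exact hcon.2 (card_of_solvable hq hx hxT (hsol hcon.1))
  rcases hcard with ⟨χ, hχ⟩ | hd
  · exact ⟨χ, χ.2, hχ.mul_left _⟩
  have hqT : q ∣ Nat.card T := by
    rw [← hx]
    exact orderOf_dvd_natCard _ hxT
  rcases hq with rfl | rfl
  · -- order 20
    have h20 : Nat.card T = 20 := by
      have h1 : 20 ∣ Nat.card T := by
        have : Nat.Coprime 4 5 := by norm_num
        exact this.mul_dvd_of_dvd_of_dvd h4T hqT
      exact Nat.dvd_antisymm (by simpa using hd) h1
    have hidx : T.index = 126 := by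
      have h1 := T.card_mul_index
      rw [card_A7, h20] at h1
      omega
    -- an even degree
    have hIM : IM 2 T := by
      by_contra hcon
      rw [not_IM_iff] at hcon
      have hnt : Nontrivial T := by
        rw [← Finite.one_lt_card_iff_nontrivial, h20]
        norm_num
      have hc := H596.comm_of_charDegree_eq_one (G := T) (fun χ => by
        have h1 := hcon χ
        have h2 : charDegree (χ : T → ℂ) ∣ 20 := by
          rw [← h20]
          exact Cfsg.Agent.Blocks.Knorr.charDegree_dvd χ.2
        have h3 := H677.CodPrime.charDegree_sq_lt χ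
        rw [h20] at h3
        have h4 : charDegree (χ : T → ℂ) < 5 := by nlinarith
        generalize charDegree (χ : T → ℂ) = d at *
        interval_cases d <;> omega)
      have h1 : T ≤ centralizer ({x} : Set (alternatingGroup (Fin 7))) := by
        intro t ht
        rw [mem_centralizer_singleton_iff]
        exact congrArg Subtype.val (hc ⟨t, ht⟩ ⟨x, hxT⟩)
      have h2 := card_dvd_of_le h1
      rw [h20, card_cent_five hx] at h2
      norm_num at h2
    obtain ⟨χ, hχ⟩ := hIM
    refine ⟨χ, χ.2, ?_⟩
    rw [hidx]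
    exact Nat.mul_dvd_mul (by norm_num : (2 : ℕ) ∣ 126) hχ
  · exfalso
    have h1 := h4T.trans hd
    norm_num at h1

end Cfsg.Agent.H681.Sev.Sub
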